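import Cfsg.Agent.Lib.HallHigmanOdd.Main
import Cfsg.Agent.Lib.Extraspecial.Structure

/-!
# The exceptional case of the Hall–Higman fixed-point lemma

If a class two `q`-group `Q` with `Q⟨τ⟩` acts coprimely on an abelian group, `[Q, Q]` nontrivially,
and `τ` (of prime order `r`, fixed-point-free on `Q / Z`) has no nontrivial fixed point, then
`q = 2`, `r = 2 ^ k + 1` and `|Q / Z| = 2 ^ (2 * k)`.
-/

set_option autoImplicit false
set_option linter.style.haveILetI false

namespace Cfsg.Agent.Lib.HallHigmanExc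

open Subgroup
open scoped commutatorElement
open Cfsg.Agent.Lib

universe u

theorem exceptional_arith {q r k : ℕ} (hq : q.Prime) (hr : r.Prime) (hk : 1 ≤ k)
    (hle : q ^ (2 * k) ≤ r * (r - 1)) (hmod : q ^ (2 * k) ≡ 1 [MOD r]) :
    q = 2 ∧ r = 2 ^ k + 1 := by
  set x := q ^ k with hx
  have hx2 : 2 ≤ x := le_trans hq.two_le (by
    calc q = q ^ 1 := (pow_one q).symm
      _ ≤ q ^ k := Nat.pow_le_pow_right hq.pos hk)
  rw [show q ^ (2 * k) = x * x by rw [hx, ← pow_add, two_mul]] at hle hmod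
  have hxr : x < r := by
    by_contra h
    push Not at h
    have h1 : r * r ≤ x * x := Nat.mul_le_mul h h
    have h2 : r * (r - 1) < r * r := Nat.mul_lt_mul_of_pos_left (by have := hr.two_le; omega) hr.pos
    omega
  have h1 : r ∣ (x - 1) * (x + 1) := by
    have h := (Nat.modEq_iff_dvd' (by nlinarith : 1 ≤ x * x)).mp hmod.symm
    have : (x - 1) * (x + 1) = x * x - 1 := by
      rw [mul_comm, Nat.mul_sub, mul_one, add_mul, one_mul]; omega
    rwa [this]
  have hxr1 : x + 1 = r := by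
    rcases hr.dvd_mul.mp h1 with h | h
    · have := Nat.le_of_dvd (by omega) h
      omega
    · have := Nat.le_of_dvd (by omega) h
      omega
  have hq2 : q = 2 := by
    by_contra hne
    obtain ⟨m, hm⟩ : Odd x := (hq.odd_of_ne_two hne).pow
    have : r = 2 := ((Nat.prime_dvd_prime_iff_eq Nat.prime_two hr).mp ⟨m + 1, by omega⟩).symm
    omega
  subst hq2
  exact ⟨rfl, hxr1.symm⟩

variable {G : Type*} [Group G] [Finite G]

theorem card_map_mk_eq {H : Type*} [Group H] (Q Z : Subgroup G) [Z.Normal] (f : Q →* H)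
    (hZ : Z.subgroupOf Q = (center f.range).comap f.rangeRestrict) :
    Nat.card (Q.map (QuotientGroup.mk' Z)) = (center f.range).index := by
  rw [show (center f.range).index = (Z.subgroupOf Q).index by
    rw [hZ, index_comap_of_surjective _ f.rangeRestrict_surjective]]
  have hk : ((QuotientGroup.mk' Z).comp Q.subtype).ker = Z.subgroupOf Q := by
    rw [← MonoidHom.comap_ker, QuotientGroup.ker_mk']
    rfl
  rw [← hk, index_ker, MonoidHom.range_comp, range_subtype]

theorem irreducible_case {V : Type*} [CommGroup V] [Finite V] [Nontrivial V] (φ : G →* MulAut V)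
    (hirr : ∀ S : Subgroup V, (∀ g, ∀ s ∈ S, φ g s ∈ S) → S = ⊥ ∨ S = ⊤)
    {Q Z : Subgroup G} [Q.Normal] [Z.Normal] {q : ℕ} [Fact q.Prime] {τ : G} {r : ℕ} (hr : r.Prime)
    (hτ : orderOf τ = r) (hqr : q ≠ r) (hQ : IsPGroup q Q)
    (htop : Q ⊔ zpowers τ = ⊤) (hdisj : Q ⊓ zpowers τ = ⊥)
    (hZQ : Z ≤ Q) (hZc : Z ≤ center G) (hcomm : ∀ x ∈ Q, ∀ y ∈ Q, ⁅x, y⁆ ∈ Z)
    (hpow : ∀ x ∈ Q, x ^ q ∈ Z) (hexp : ∀ z ∈ Z, z ^ q = 1)
    (hfixQ : Q ⊓ centralizer (zpowers τ : Set G) ≤ Z)
    (hnd : ∀ K : Subgroup G, K.Normal → ¬ ⁅Q, Q⁆ ≤ K → ∀ x ∈ Q, x ∉ Z → ∃ y ∈ Q, ⁅y, x⁆ ∉ K)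
    (hnab : ¬ ⁅Q, Q⁆ ≤ φ.ker) (hcop : (Nat.card G).Coprime (Nat.card V))
    (hno : Wielandt.fixedSub φ (zpowers τ) = ⊥) :
    ∃ k : ℕ, q = 2 ∧ r = 2 ^ k + 1 ∧ Nat.card (Q.map (QuotientGroup.mk' Z)) = 2 ^ (2 * k) := by
  classical
  haveI := Fact.mk hr
  set ψ := HallHigmanOdd.endOfAut φ with hψdef
  let E := Subring.centralizer (Set.range ψ : Set (AddMonoid.End (Additive V)))
  have hEcomm : ∀ c ∈ E, ∀ g, ψ g * c = c * ψ g := fun c hc g =>
    Subring.mem_centralizer_iff.mp hc _ ⟨g, rfl⟩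
  have hEinj : ∀ c ∈ E, c ≠ 0 → ∀ v : Additive V, c v = 0 → v = 0 := by
    intro c hc hc0 v hv
    let K : Subgroup V := (c.ker).toSubgroup'
    have hK : ∀ g, ∀ s ∈ K, φ g s ∈ K := fun g s hs => by
      have h := DFunLike.congr_fun (hEcomm c hc g) (Additive.ofMul s)
      change c (Additive.ofMul (φ g s)) = 0
      change ψ g (c (Additive.ofMul s)) = c (Additive.ofMul (φ g s)) at h
      rw [← h, show c (Additive.ofMul s) = 0 from hs, map_zero]
    rcases hirr K hK with h | h
    · have hv' : v.toMul ∈ K := hv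
      rw [h, mem_bot] at hv'
      exact Additive.toMul.injective hv'
    · refine absurd (AddMonoidHom.ext fun x => ?_) hc0
      exact (h ▸ mem_top x.toMul : x.toMul ∈ K)
  haveI : Finite (AddMonoid.End (Additive V)) := DFunLike.finite _
  haveI : Nontrivial (AddMonoid.End (Additive V)) := by
    refine ⟨⟨0, 1, fun h => ?_⟩⟩
    obtain ⟨v, hv⟩ := exists_ne (0 : Additive V)
    exact hv (DFunLike.congr_fun h v).symm
  haveI : IsDomain E := by
    haveI : NoZeroDivisors E := ⟨fun {a b} hab => by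
      by_contra hc
      push Not at hc
      refine hc.2 (Subtype.ext (AddMonoidHom.ext fun v => ?_))
      refine hEinj a.1 a.2 (fun h => hc.1 (Subtype.ext h)) _ ?_
      exact DFunLike.congr_fun (congrArg Subtype.val hab) v⟩
    exact NoZeroDivisors.to_isDomain E
  letI : Field E := (Finite.isDomain_to_isField E).toField
  let ρ : G →* Module.End E (Additive V) :=
    { toFun := fun g =>
        { toFun := fun v => ψ g v
          map_add' := fun v w => map_add (ψ g) v w
          map_smul' := fun c v => DFunLike.congr_fun (hEcomm c.1 c.2 g) v }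
      map_one' := LinearMap.ext fun v => DFunLike.congr_fun (map_one ψ) v
      map_mul' := fun g h => LinearMap.ext fun v => DFunLike.congr_fun (map_mul ψ g h) v }
  have hker : ∀ g, ρ g = 1 → g ∈ φ.ker := fun g h => MonoidHom.mem_ker.mpr <| MulEquiv.ext fun v =>
    Additive.ofMul.injective (DFunLike.congr_fun h (Additive.ofMul v))
  have hzE : ∀ z ∈ Z, ψ z ∈ E := fun z hz => Subring.mem_centralizer_iff.mpr (by
    rintro _ ⟨g, rfl⟩
    rw [← map_mul, ← map_mul, mem_center_iff.mp (hZc hz) g])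
  -- nondegeneracy on `V`
  have hndV := hnd φ.ker inferInstance hnab
  let f : Q →* MulAut V := φ.comp Q.subtype
  have hZcenter : Z.subgroupOf Q = (center f.range).comap f.rangeRestrict := by
    ext x
    rw [mem_subgroupOf, mem_comap, mem_center_iff]
    constructor
    · rintro hx ⟨_, y, rfl⟩
      exact Subtype.ext (by
        show φ y * φ x = φ x * φ y
        rw [← map_mul, ← map_mul, mem_center_iff.mp (hZc hx) y])
    · intro h
      by_contra hx
      obtain ⟨y, hy, hyx⟩ := hndV x x.2 hx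
      refine hyx ?_
      have hcm : φ y * φ x = φ x * φ y := congrArg Subtype.val (h ⟨f ⟨y, hy⟩, ⟨_, rfl⟩⟩)
      rw [MonoidHom.mem_ker, map_commutatorElement, commutatorElement_eq_one_iff_mul_comm]
      exact hcm
  -- the centre of the image has order `q`
  have hcardc : Nat.card (center f.range) = q := by
    have hsur : ∀ w : center f.range, ∃ z : Z, φ z = (w : f.range).1 := fun w => by
      obtain ⟨x, hx⟩ := (w : f.range).2
      have hmem : x ∈ (center f.range).comap f.rangeRestrict := by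
        rw [mem_comap, show f.rangeRestrict x = (w : f.range) from Subtype.ext hx]
        exact w.2
      rw [← hZcenter] at hmem
      exact ⟨⟨x, hmem⟩, hx⟩
    choose zz hzz using hsur
    let χ : center f.range →* E :=
      { toFun := fun w => ⟨ψ (zz w), hzE _ (zz w).2⟩
        map_one' := Subtype.ext (AddMonoidHom.ext fun v => congrArg Additive.ofMul (by
          show φ (zz 1) v.toMul = v.toMul
          rw [hzz]; rfl))
        map_mul' := fun a b => Subtype.ext (AddMonoidHom.ext fun v => congrArg Additive.ofMul (by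
          show φ (zz (a * b)) v.toMul = φ (zz a) (φ (zz b) v.toMul)
          rw [hzz, hzz, hzz]; rfl)) }
    have hχ : Function.Injective χ := fun a b hab => by
      refine Subtype.ext (Subtype.ext (MulEquiv.ext fun v => ?_))
      have h := DFunLike.congr_fun (congrArg Subtype.val hab) (Additive.ofMul v)
      have h' : φ (zz a) v = φ (zz b) v := Additive.ofMul.injective h
      rwa [hzz, hzz] at h'
    haveI := isCyclic_of_subgroup_isDomain χ hχ
    obtain ⟨w, hw⟩ := IsCyclic.exists_ofOrder_eq_natCard (α := center f.range)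
    have hd : Nat.card (center f.range) ∣ q := hw ▸ orderOf_dvd_of_pow_eq_one (Subtype.ext
      (Subtype.ext (by
        show (w : f.range).1 ^ q = 1
        rw [← hzz, ← map_pow, hexp _ (zz w).2, map_one])))
    refine ((Fact.out : q.Prime).eq_one_or_self_of_dvd _ hd).resolve_left fun h => hnab ?_
    rw [commutator_le]
    intro a ha b hb
    have hmem : (⟨⁅a, b⁆, hZQ (hcomm a ha b hb)⟩ : Q) ∈
        (center f.range).comap f.rangeRestrict := by
      rw [← hZcenter]
      exact hcomm a ha b hb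
    rw [mem_comap, eq_bot_of_card_eq _ h, mem_bot] at hmem
    exact MonoidHom.mem_ker.mpr (congrArg Subtype.val hmem)
  have hEL : ExtraStruct.ExtraLike q f.range := by
    refine ⟨hcardc, ?_, ?_⟩
    · rintro ⟨_, a, rfl⟩ ⟨_, b, rfl⟩
      have hmem : ⁅a, b⁆ ∈ (center f.range).comap f.rangeRestrict := by
        rw [← hZcenter]
        exact hcomm a a.2 b b.2
      rwa [mem_comap, map_commutatorElement] at hmem
    · rintro ⟨_, a, rfl⟩
      have hmem : a ^ q ∈ (center f.range).comap f.rangeRestrict := by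
        rw [← hZcenter]
        exact hpow a a.2
      rwa [mem_comap, map_pow] at hmem
  obtain ⟨k, hk⟩ := ExtraStruct.exists_card_eq _ f.range rfl hEL
  have hD : Nat.card (Q.map (QuotientGroup.mk' Z)) = q ^ (2 * k) := by
    rw [card_map_mk_eq Q Z f hZcenter]
    have h := (center f.range).card_mul_index
    rw [hcardc, hk, pow_succ'] at h
    exact Nat.eq_of_mul_eq_mul_left (Fact.out : q.Prime).pos h
  have hk1 : 1 ≤ k := by
    by_contra hk0
    rw [show k = 0 by omega] at hk
    have htc : center f.range = ⊤ := eq_top_of_card_eq _ (by rw [hcardc, hk]; simp)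
    apply hnab
    rw [commutator_le]
    intro a ha b hb
    have h : (⟨φ a, ⟨a, ha⟩, rfl⟩ : f.range) ∈ center f.range := htc ▸ mem_top _
    rw [MonoidHom.mem_ker, map_commutatorElement, commutatorElement_eq_one_iff_mul_comm]
    exact (congrArg Subtype.val (mem_center_iff.mp h ⟨φ b, ⟨b, hb⟩, rfl⟩)).symm
  -- congruence modulo `r`
  have hAQ : zpowers τ ≤ normalizer (Q : Set G) := by rw [normalizer_eq_top]; exact le_top
  have hZτ : ∀ z ∈ Z, z ∈ centralizer (zpowers τ : Set G) := fun z hz =>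
    mem_centralizer_iff.mpr fun a _ => mem_center_iff.mp (hZc hz) a
  have hmod : Nat.card Q ≡ Nat.card Z [MOD r] := by
    letI : MulAction (zpowers τ) Q := MulAction.compHom Q (Coprime.conjAut hAQ)
    have hp : IsPGroup r (zpowers τ) :=
      IsPGroup.of_card (n := 1) (by rw [Nat.card_zpowers, hτ, pow_one])
    refine (hp.card_modEq_card_fixedPoints Q).trans (congrArg (· % r) (Nat.card_congr
      ⟨fun x => ⟨x.1.1, hfixQ ⟨x.1.2, mem_centralizer_iff.mpr fun a ha => ?_⟩⟩,
        fun z => ⟨⟨z.1, hZQ z.2⟩, fun a => Subtype.ext ?_⟩, fun _ => rfl, fun _ => rfl⟩))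
    · exact mul_inv_eq_iff_eq_mul.mp (congrArg Subtype.val (x.2 ⟨a, ha⟩))
    · show (a : G) * z.1 * (a : G)⁻¹ = z.1
      rw [mem_centralizer_iff.mp (hZτ z z.2) a a.2, mul_inv_cancel_right]
  have hcardQ : Nat.card Q = Nat.card Z * q ^ (2 * k) := by
    rw [← hD]
    let f2 := (QuotientGroup.mk' Z).comp Q.subtype
    have hf2 : f2.range = Q.map (QuotientGroup.mk' Z) := by
      rw [MonoidHom.range_comp, range_subtype]
    have hk2 : Nat.card f2.ker = Nat.card Z :=
      Nat.card_congr ⟨fun x => ⟨x.1.1, (QuotientGroup.eq_one_iff _).mp x.2⟩,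
        fun z => ⟨⟨z.1, hZQ z.2⟩, (QuotientGroup.eq_one_iff _).mpr z.2⟩, fun _ => rfl, fun _ => rfl⟩
    rw [← f2.ker.card_mul_index, index_ker, hf2, hk2]
  have hDmod : q ^ (2 * k) ≡ 1 [MOD r] := by
    obtain ⟨m, hm⟩ := IsPGroup.iff_card.mp (hQ.to_le hZQ)
    refine Nat.ModEq.cancel_left_of_coprime ?_ (c := Nat.card Z) (by rwa [mul_one, ← hcardQ])
    rw [hm]
    exact Nat.Coprime.pow_right _ ((Nat.coprime_primes hr (Fact.out : q.Prime)).mpr (Ne.symm hqr))
  have hle : q ^ (2 * k) ≤ r * (r - 1) := by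
    by_contra hlt
    push Not at hlt
    rw [← hD] at hlt
    refine HallHigmanOdd.false_of_fixedPointFree ρ (Q := Q) (Z := Z) hr hτ htop hdisj hZQ
      ?_ ?_ ?_ hcomm hZc ?_ ?_ ?_ hlt
    · intro z hz
      exact ⟨⟨ψ z, hzE z hz⟩, LinearMap.ext fun v => rfl⟩
    · intro X hX
      refine ⟨⟨X.toAddMonoidHom, Subring.mem_centralizer_iff.mpr ?_⟩, LinearMap.ext fun v => rfl⟩
      rintro _ ⟨g, rfl⟩
      exact AddMonoidHom.ext fun v => DFunLike.congr_fun (hX g) v
    · intro x hx hxZ
      have hAZ : zpowers τ ≤ normalizer (Z : Set G) := by rw [normalizer_eq_top]; exact le_top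
      obtain ⟨c, hc, hxc⟩ := Coprime.exists_centralizer_mem_leftCoset hAZ
        (by
          obtain ⟨m, hm⟩ := IsPGroup.iff_card.mp (hQ.to_le hZQ)
          rw [Nat.card_zpowers, hτ, hm]
          exact Nat.Coprime.pow_right _ ((Nat.coprime_primes hr Fact.out).mpr hqr.symm))
        (Or.inl inferInstance) (k := x) (fun a ha => by
          have : zpowers τ ≤ Subgroup.comap (QuotientGroup.mk' Z)
              (centralizer ({(x : G ⧸ Z)} : Set (G ⧸ Z))) := by
            rw [zpowers_le, mem_comap, mem_centralizer_singleton_iff]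
            have h := (QuotientGroup.eq (s := Z)).mpr hxZ
            change (x : G ⧸ Z) = ((τ * x * τ⁻¹ : G) : G ⧸ Z) at h
            rw [QuotientGroup.mk_mul, QuotientGroup.mk_mul, QuotientGroup.mk_inv,
              eq_mul_inv_iff_mul_eq] at h
            exact h.symm
          have h := mem_centralizer_singleton_iff.mp (this ha)
          refine QuotientGroup.eq.mp ?_
          rw [QuotientGroup.mk_mul, QuotientGroup.mk_mul, QuotientGroup.mk_inv, eq_mul_inv_iff_mul_eq]
          exact h.symm)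
      have hcQ : c ∈ Q := by
        have h := Q.mul_mem hx (hZQ hxc)
        simpa using h
      have hcZ : c ∈ Z := hfixQ ⟨hcQ, hc⟩
      have := Z.mul_mem hcZ (Z.inv_mem hxc)
      simpa using this
    · intro x hx hxZ
      obtain ⟨y, hy, hyx⟩ := hndV x hx hxZ
      exact ⟨y, hy, fun h => hyx (hker _ h)⟩
    · intro w hw
      have : w.toMul ∈ Wielandt.fixedSub φ (zpowers τ) := fun g hg => by
        have h1 : zpowers τ ≤ (MulAction.stabilizer (MulAut V) w.toMul).comap φ :=
          zpowers_le.mpr (congrArg Additive.toMul hw)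
        exact h1 hg
      rw [hno, mem_bot] at this
      exact Additive.toMul.injective this
    · refine hcop.coprime_dvd_right ?_
      obtain ⟨v, hv⟩ := exists_ne (0 : Additive V)
      let g : E →+ Additive V :=
        { toFun := fun c => c.1 v, map_zero' := rfl, map_add' := fun _ _ => rfl }
      have hg : Function.Injective g := fun a b hab => by
        by_contra hne
        refine hv (hEinj (a.1 - b.1) (E.sub_mem a.2 b.2)
          (fun h => hne (Subtype.ext (sub_eq_zero.mp h))) v ?_)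
        exact sub_eq_zero.mpr hab
      exact (AddSubgroup.card_dvd_of_injective g hg).trans (Nat.card_congr Additive.toMul).dvd
  obtain ⟨rfl, hr2⟩ := exceptional_arith (Fact.out : q.Prime) hr hk1 hle hDmod
  exact ⟨k, rfl, hr2, hD⟩

/-- The exceptional case: no fixed point forces `q = 2` and `r = 2 ^ k + 1`. -/
theorem exceptional_of_no_fixed {Q Z : Subgroup G} [Q.Normal] [Z.Normal] {q : ℕ} [Fact q.Prime]
    {τ : G} {r : ℕ} (hr : r.Prime) (hτ : orderOf τ = r) (hqr : q ≠ r) (hQ : IsPGroup q Q)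
    (htop : Q ⊔ zpowers τ = ⊤) (hdisj : Q ⊓ zpowers τ = ⊥)
    (hZQ : Z ≤ Q) (hZc : Z ≤ center G) (hcomm : ∀ x ∈ Q, ∀ y ∈ Q, ⁅x, y⁆ ∈ Z)
    (hpow : ∀ x ∈ Q, x ^ q ∈ Z) (hexp : ∀ z ∈ Z, z ^ q = 1)
    (hfixQ : Q ⊓ centralizer (zpowers τ : Set G) ≤ Z)
    (hnd : ∀ K : Subgroup G, K.Normal → ¬ ⁅Q, Q⁆ ≤ K → ∀ x ∈ Q, x ∉ Z → ∃ y ∈ Q, ⁅y, x⁆ ∉ K) :
    ∀ (n : ℕ) (V : Type u) [CommGroup V] [Finite V] (φ : G →* MulAut V), Nat.card V = n →
      (Nat.card G).Coprime (Nat.card V) → Wielandt.fixedSub φ (zpowers τ) = ⊥ →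
      ¬ ⁅Q, Q⁆ ≤ φ.ker →
      ∃ k : ℕ, q = 2 ∧ r = 2 ^ k + 1 ∧ Nat.card (Q.map (QuotientGroup.mk' Z)) = 2 ^ (2 * k) := by
  intro n
  induction n using Nat.strong_induction_on with
  | _ n ih =>
  intro V _ _ φ hn hcop hno hnab
  rcases subsingleton_or_nontrivial V with hV | hV
  · exact absurd (fun g _ => MulEquiv.ext fun x => Subsingleton.elim _ _) hnab
  by_cases hred : ∃ N : Subgroup V, (∀ g, ∀ s ∈ N, φ g s ∈ N) ∧ N ≠ ⊥ ∧ N ≠ ⊤
  · obtain ⟨N, hN, hN1, hN2⟩ := hred
    have hlt1 : Nat.card N < Nat.card V :=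
      lt_of_le_of_ne N.card_le_card_group fun h => hN2 (eq_top_of_card_eq N h)
    have hlt2 : Nat.card (V ⧸ N) < Nat.card V := by
      rw [card_eq_card_quotient_mul_card_subgroup N]
      exact lt_mul_of_one_lt_right Nat.card_pos (N.one_lt_card_iff_ne_bot.mpr hN1)
    have hcopN := hcop.coprime_dvd_right (card_subgroup_dvd_card N)
    by_cases h1 : ⁅Q, Q⁆ ≤ (Wielandt.restrictAct φ N hN).ker
    · refine ih _ (hn ▸ hlt2) (V ⧸ N) (Wielandt.quotientAct φ N hN) rfl
        (hcop.coprime_dvd_right ⟨_, card_eq_card_quotient_mul_card_subgroup N⟩)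
        (HallHigmanOdd.fixedSub_quotientAct_eq_bot φ hno N hN hcopN inferInstance) fun h2 =>
          hnab fun g hg => ?_
      refine HallHigmanOdd.map_eq_one_of_stabilizes φ hcop N (fun v hv => ?_) fun x => ?_
      · exact congrArg Subtype.val (DFunLike.congr_fun (h1 hg) (⟨v, hv⟩ : N))
      · have h : ((φ g x : V) : V ⧸ N) = x := DFunLike.congr_fun (h2 hg) (x : V ⧸ N)
        exact QuotientGroup.eq.mp h.symm
    · exact ih _ (hn ▸ hlt1) N (Wielandt.restrictAct φ N hN) rfl hcopN
        (HallHigmanOdd.fixedSub_restrictAct_eq_bot φ hno N hN) h1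
  push Not at hred
  refine irreducible_case φ (fun S hS => ?_) hr hτ hqr hQ htop hdisj hZQ hZc hcomm hpow hexp
    hfixQ hnd hnab hcop hno
  by_cases h : S = ⊥
  · exact Or.inl h
  · exact Or.inr (hred S hS h)

end Cfsg.Agent.Lib.HallHigmanExc
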