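import Cfsg.Agent.Lib.HallHigmanExc.Basic

/-!
# The exceptional Hall–Higman case for subgroups of a finite group
-/

set_option autoImplicit false
set_option linter.style.haveILetI false

namespace Cfsg.Agent.Lib.HallHigmanExc

open Subgroup Cfsg
open scoped commutatorElement
open Cfsg.Agent.Lib

universe u

variable {G : Type u} [Group G] [Finite G]

theorem exceptional_of_subgroups {p q r : ℕ} (hp : p.Prime) (hq : q.Prime) (hr : r.Prime)
    (hpq : p ≠ q) (hpr : p ≠ r) (hqr : q ≠ r) {X Q V Z : Subgroup G} (hX : Nat.card X = r)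
    (hQ : IsPGroup q Q) (hXQ : X ≤ normalizer (Q : Set G)) (hZQ : Z ≤ Q)
    (hZc : Z ≤ centralizer (Q : Set G)) (hZX : Z ≤ centralizer (X : Set G))
    (hV : IsElementaryAbelian p V) (hXV : X ≤ normalizer (V : Set G))
    (hQV : Q ≤ normalizer (V : Set G)) (hfaith : (X ⊔ Q) ⊓ centralizer (V : Set G) = ⊥)
    (hcomm : ∀ x ∈ Q, ∀ y ∈ Q, ⁅x, y⁆ ∈ Z) (hpow : ∀ x ∈ Q, x ^ q ∈ Z)
    (hexp : ∀ z ∈ Z, z ^ q = 1) (hfix : Q ⊓ centralizer (X : Set G) ≤ Z)
    (hnd : ∀ K : Subgroup G, X ⊔ Q ≤ normalizer (K : Set G) → ¬ ⁅Q, Q⁆ ≤ K →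
      ∀ x ∈ Q, x ∉ Z → ∃ y ∈ Q, ⁅y, x⁆ ∉ K)
    (hnab : ⁅Q, Q⁆ ≠ ⊥) (hCV : V ⊓ centralizer (X : Set G) = ⊥) :
    ∃ k : ℕ, q = 2 ∧ r = 2 ^ k + 1 ∧ Nat.card Q = Nat.card Z * 2 ^ (2 * k) := by
  haveI := Fact.mk hq
  haveI := Fact.mk hr
  haveI := Fact.mk hp
  set L := X ⊔ Q with hL
  have hXL : X ≤ L := le_sup_left
  have hQL : Q ≤ L := le_sup_right
  have hZL : Z ≤ L := hZQ.trans hQL
  haveI hQn : (Q.subgroupOf L).Normal :=
    normal_subgroupOf_of_le_normalizer (sup_le hXQ Subgroup.le_normalizer)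
  have hZcen : ∀ z ∈ Z, ∀ g ∈ L, g * z = z * g := by
    intro z hz g hg
    have hle : L ≤ centralizer ({z} : Set G) := sup_le
      (fun a ha => mem_centralizer_singleton_iff.mpr (mem_centralizer_iff.mp (hZX hz) a ha))
      (fun a ha => mem_centralizer_singleton_iff.mpr (mem_centralizer_iff.mp (hZc hz) a ha))
    exact mem_centralizer_singleton_iff.mp (hle hg)
  have hZc' : Z.subgroupOf L ≤ center ↥L := fun z hz => mem_center_iff.mpr fun g =>
    Subtype.ext (hZcen z (mem_subgroupOf.mp hz) g g.2)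
  haveI hZn : (Z.subgroupOf L).Normal :=
    ⟨fun z hz g => by rw [mem_center_iff.mp (hZc' hz) g, mul_inv_cancel_right]; exact hz⟩
  obtain ⟨x0, hx0⟩ := (isCyclic_of_prime_card (p := r) hX : IsCyclic X).exists_generator
  set τ : L := ⟨x0, hXL x0.2⟩ with hτdef
  have hXz : X.subgroupOf L = zpowers τ := by
    refine le_antisymm (fun x hx => ?_) (zpowers_le.mpr (mem_subgroupOf.mpr x0.2))
    obtain ⟨k, hk⟩ := mem_zpowers_iff.mp (hx0 ⟨x, mem_subgroupOf.mp hx⟩)
    exact mem_zpowers_iff.mpr ⟨k, Subtype.ext (by simpa [τ] using congrArg Subtype.val hk)⟩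
  have hτ : orderOf τ = r := by
    rw [← Nat.card_zpowers, ← hXz, Nat.card_congr (subgroupOfEquivOfLe hXL).toEquiv, hX]
  have htop : Q.subgroupOf L ⊔ zpowers τ = ⊤ := by
    rw [← hXz, ← subgroupOf_sup hQL hXL, sup_comm, subgroupOf_self]
  have hXr : IsPGroup r X := IsPGroup.of_card (n := 1) (by rw [hX, pow_one])
  have hdisj : Q.subgroupOf L ⊓ zpowers τ = ⊥ := by
    rw [← hXz, eq_bot_iff]
    rintro x ⟨h1, h2⟩
    exact Subtype.ext ((IsPGroup.disjoint_of_ne q r hqr Q X hQ hXr).le_bot ⟨h1, h2⟩)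
  haveI := hV.1
  letI : CommGroup V := { (inferInstance : Group V) with
    mul_comm := fun a b => Subtype.ext (setLike_mul_comm a.2 b.2) }
  have hLV : L ≤ normalizer (V : Set G) := sup_le hXV hQV
  have hcop : (Nat.card L).Coprime (Nat.card V) := by
    have hVp : IsPGroup p V := fun v => ⟨1, by rw [pow_one]; exact Subtype.ext (hV.2 v v.2)⟩
    obtain ⟨a, ha⟩ := IsPGroup.iff_card.mp hVp
    obtain ⟨b, hb⟩ := IsPGroup.iff_card.mp hQ
    have hLcard : Nat.card L = q ^ b * r := by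
      have h := (isComplement'_of_disjoint_and_mul_eq_univ (disjoint_iff.mpr hdisj) (by
        rw [← normal_mul, htop, coe_top])).card_mul_card
      rwa [Nat.card_congr (subgroupOfEquivOfLe hQL).toEquiv, Nat.card_zpowers, hτ, hb, eq_comm] at h
    rw [hLcard, ha]
    exact Nat.Coprime.pow_right _ (Nat.Coprime.mul_left
      (Nat.Coprime.pow_left _ ((Nat.coprime_primes hq hp).mpr hpq.symm))
      ((Nat.coprime_primes hr hp).mpr hpr.symm))
  set φ := Coprime.conjAut hLV with hφ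
  have hinj : ∀ g : L, φ g = 1 → g = 1 := fun g hg => by
    have h : (g : G) ∈ L ⊓ centralizer (V : Set G) := ⟨g.2, mem_centralizer_iff.mpr fun v hv => by
      have h1 := congrArg Subtype.val (DFunLike.congr_fun hg (⟨v, hv⟩ : V))
      exact (mul_inv_eq_iff_eq_mul.mp h1).symm⟩
    rw [hfaith, mem_bot] at h
    exact Subtype.ext h
  have hno : Wielandt.fixedSub φ (zpowers τ) = ⊥ := by
    rw [eq_bot_iff]
    intro v hv
    have h : (v : G) ∈ V ⊓ centralizer (X : Set G) := ⟨v.2, mem_centralizer_iff.mpr fun a ha => by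
      exact mul_inv_eq_iff_eq_mul.mp (congrArg Subtype.val (hv ⟨a, hXL ha⟩ (hXz ▸ ha)))⟩
    rw [hCV, mem_bot] at h
    exact mem_bot.mpr (Subtype.ext h)
  have hmapQQ : ⁅Q.subgroupOf L, Q.subgroupOf L⁆.map L.subtype = ⁅Q, Q⁆ := by
    rw [map_commutator, map_subgroupOf_eq_of_le hQL]
  obtain ⟨k, h1, h2, h3⟩ := exceptional_of_no_fixed (Q := Q.subgroupOf L) (Z := Z.subgroupOf L)
    hr hτ hqr (hQ.of_equiv (subgroupOfEquivOfLe hQL).symm) htop hdisj
    (fun z hz => hZQ hz) hZc' (fun x hx y hy => hcomm x hx y hy)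
    (fun x hx => hpow x hx) (fun z hz => Subtype.ext (hexp z hz))
    (by
      rintro x ⟨hxQ, hxc⟩
      refine hfix ⟨hxQ, mem_centralizer_iff.mpr fun a ha => ?_⟩
      exact congrArg Subtype.val (mem_centralizer_iff.mp hxc ⟨a, hXL ha⟩ (hXz ▸ ha)))
    (fun K hK hKn x hx hxZ => by
      obtain ⟨y, hy, hyx⟩ := hnd (K.map L.subtype) (by
          have h := le_normalizer_map (H := K) L.subtype
          rw [normalizer_eq_top, ← MonoidHom.range_eq_map, range_subtype] at h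
          exact h)
        (fun h => hKn (by
          rw [← hmapQQ] at h
          exact (map_le_map_iff_of_injective L.subtype_injective).mp h))
        x hx hxZ
      exact ⟨⟨y, hQL hy⟩, hy, fun h => hyx ⟨_, h, rfl⟩⟩)
    _ V φ rfl hcop hno
    (fun h => hnab (by
      rw [← hmapQQ, eq_bot_iff]
      rintro _ ⟨g, hg, rfl⟩
      rw [hinj g (h hg)]
      exact one_mem _))
  refine ⟨k, h1, h2, ?_⟩
  set f := (QuotientGroup.mk' (Z.subgroupOf L)).comp (Q.subgroupOf L).subtype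
  have hf : f.range = (Q.subgroupOf L).map (QuotientGroup.mk' (Z.subgroupOf L)) := by
    rw [MonoidHom.range_comp, range_subtype]
  have hk : Nat.card f.ker = Nat.card Z :=
    Nat.card_congr ⟨fun x => ⟨x.1.1.1, mem_subgroupOf.mp ((QuotientGroup.eq_one_iff _).mp x.2)⟩,
      fun z => ⟨⟨⟨z.1, hZL z.2⟩, hZQ z.2⟩, (QuotientGroup.eq_one_iff _).mpr z.2⟩,
      fun _ => rfl, fun _ => rfl⟩
  rw [← Nat.card_congr (subgroupOfEquivOfLe hQL).toEquiv, ← f.ker.card_mul_index, index_ker, hf,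
    hk, h3]

end Cfsg.Agent.Lib.HallHigmanExc
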